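import Groth.Agent.Lib.SetsGabber24.Hens
import Groth.Agent.Lib.Hens.ClopenLift
import Mathlib.AlgebraicGeometry.Morphisms.Integral

/-!
# Integral schemes over henselian pairs: sections of sheaves of sets on the special part
-/

universe u

open CategoryTheory CategoryTheory.Limits AlgebraicGeometry Opposite

set_option backward.isDefEq.respectTransparency.types false

namespace Groth.Agent.SetsGabber24

open Groth.Agent.Hens (ClopenLift)

variable {A : Type u} [CommRing A] {I : Ideal A} {X : Scheme.{u}}

/-- Clopens of the special part lift uniquely along integral morphisms. -/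
theorem clopenLift_integral (hA : HenselianRing A I) (f : X ⟶ Spec (CommRingCat.of A)) [IsIntegralHom f] :
    ClopenLift (Subtype.val : (f ⁻¹' PrimeSpectrum.zeroLocus (I : Set A) : Set X) → X) := by
  haveI : IsAffine X := isAffine_of_isAffineHom f
  obtain ⟨φ, hφ⟩ : ∃ φ, Spec.map φ = X.isoSpec.inv ≫ f := ⟨_, Spec.map_preimage _⟩
  have hint : φ.hom.IsIntegral := by
    rw [← IsIntegralHom.SpecMap_iff, hφ]
    infer_instance
  letI := φ.hom.toAlgebra
  haveI : Algebra.IsIntegral A Γ(X, ⊤) := ⟨hint⟩
  let J := I.map (algebraMap A Γ(X, ⊤))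
  have h1 : ClopenLift (PrimeSpectrum.comap (Ideal.Quotient.mk J)) :=
    (Hens.clopenLift_comap_mk_iff _).mpr (Hens.bijOn_idempotents hA)
  have h2 := h1.homeomorph_left X.isoSpec.inv.homeomorph
  refine h2.congr_range ?_ Topology.IsEmbedding.subtypeVal ?_
  · exact X.isoSpec.inv.homeomorph.isEmbedding.comp
      (PrimeSpectrum.isClosedEmbedding_comap_of_surjective _ _ Ideal.Quotient.mk_surjective).isEmbedding
  · rw [Subtype.range_coe, Set.range_comp, range_comap_of_surjective _ _ Ideal.Quotient.mk_surjective,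
      Ideal.mk_ker]
    refine Eq.trans ?_ (Set.image_preimage_eq _ X.isoSpec.inv.homeomorph.surjective)
    congr 1
    ext y
    show y ∈ PrimeSpectrum.zeroLocus (J : Set Γ(X, ⊤)) ↔
      f (X.isoSpec.inv y) ∈ PrimeSpectrum.zeroLocus (I : Set A)
    rw [← Scheme.Hom.comp_apply, ← hφ]
    show _ ↔ y ∈ PrimeSpectrum.comap φ.hom ⁻¹' PrimeSpectrum.zeroLocus (I : Set A)
    rw [PrimeSpectrum.preimage_comap_zeroLocus]
    exact Iff.of_eq (congrArg (y ∈ ·) (PrimeSpectrum.zeroLocus_span _))

theorem secEq_of_integral (hA : HenselianRing A I) (f : X ⟶ Spec (CommRingCat.of A)) [IsIntegralHom f] :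
    Gabber24.SecEq X.carrier (f ⁻¹' PrimeSpectrum.zeroLocus (I : Set A)) := by
  haveI : CompactSpace X := QuasiCompact.compactSpace_of_compactSpace f
  haveI : QuasiSeparatedSpace X := quasiSeparatedSpace_of_quasiSeparated f
  haveI : SpectralSpace X.carrier := {}
  set Z : Set X := f ⁻¹' PrimeSpectrum.zeroLocus (I : Set A) with hZdef
  have hZ : IsClosed Z := (PrimeSpectrum.isClosed_zeroLocus _).preimage f.continuous
  refine Groth.Agent.S0153.result X.carrier Z hZ (fun x => ⟨?_, ?_⟩)
  · obtain ⟨m, hm, hle⟩ := Ideal.exists_le_maximal _ (show PrimeSpectrum A from f x).isPrime.ne_top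
    have hcl : IsClosed (f '' closure {x} : Set (PrimeSpectrum A)) := f.isClosedMap _ isClosed_closure
    have hmem : (⟨m, hm.isPrime⟩ : PrimeSpectrum A) ∈ (f '' closure {x} : Set (PrimeSpectrum A)) :=
      ((PrimeSpectrum.le_iff_specializes (show PrimeSpectrum A from f x) ⟨m, hm.isPrime⟩).mp hle).mem_closed
        hcl ⟨x, subset_closure rfl, rfl⟩
    obtain ⟨y, hy, hy'⟩ := hmem
    refine ⟨y, ?_, hy⟩
    show (I : Set A) ⊆ (show PrimeSpectrum A from f y).asIdeal
    rw [show (show PrimeSpectrum A from f y) = ⟨m, hm.isPrime⟩ from hy']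
    exact hA.jac.trans (sInf_le ⟨bot_le, hm⟩)
  · let C : TopologicalSpace.Closeds X := ⟨closure {x}, isClosed_closure⟩
    let J := Scheme.IdealSheafData.vanishingIdeal C
    let j : J.subscheme ⟶ X := J.subschemeι
    have hj : Set.range j = closure {x} := by
      rw [Scheme.IdealSheafData.range_subschemeι, Scheme.IdealSheafData.coe_support_vanishingIdeal]
      rfl
    haveI : IsIntegralHom (j ≫ f) := inferInstance
    have hirr : _root_.IsPreconnected (Set.univ : Set J.subscheme) := by
      rw [← j.isClosedEmbedding.isEmbedding.isInducing.isPreconnected_image, Set.image_univ, hj]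
      exact isPreconnected_singleton.closure
    haveI : PreconnectedSpace J.subscheme := ⟨hirr⟩
    have hl := clopenLift_integral hA (j ≫ f)
    have hpre : PreconnectedSpace ((j ≫ f) ⁻¹' PrimeSpectrum.zeroLocus (I : Set A) : Set J.subscheme) := by
      rw [preconnectedSpace_iff_clopen]
      intro V hV
      obtain ⟨U, ⟨hU, hUV⟩, -⟩ := hl V hV
      rcases isClopen_iff.1 hU with rfl | rfl
      · exact Or.inl (hUV.symm.trans Set.preimage_empty)
      · exact Or.inr (hUV.symm.trans Set.preimage_univ)
    have himg := (isPreconnected_iff_preconnectedSpace.mpr hpre).image j j.continuous.continuousOn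
    have e : j '' ((j ≫ f) ⁻¹' PrimeSpectrum.zeroLocus (I : Set A)) = Z ∩ closure {x} := by
      rw [← hj, ← Set.image_preimage_eq_inter_range]
      rfl
    exact e ▸ himg

/-- Restriction to the special part is bijective on global sections of etale sheaves of sets. -/
theorem bijective_unit_integral (hA : HenselianRing A I) (f : X ⟶ Spec (CommRingCat.of A)) [IsIntegralHom f]
    {Z : Scheme.{u}} (i : Z ⟶ X) [IsClosedImmersion i]
    (hi : Set.range i = f ⁻¹' PrimeSpectrum.zeroLocus (I : Set A)) (F : EtDesc.Sh X) :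
    Function.Bijective (((EtDesc.adjSh i).unit.app F).hom.app (op (EtCoh.top X))) := by
  haveI : CompactSpace X := QuasiCompact.compactSpace_of_compactSpace f
  haveI : QuasiSeparatedSpace X := quasiSeparatedSpace_of_quasiSeparated f
  refine bijective_unit i (hi.symm ▸ secEq_of_integral hA f) (fun X' π hπ => ?_) F
  have h := secEq_of_integral hA (π ≫ f)
  rwa [show (π ≫ f) ⁻¹' PrimeSpectrum.zeroLocus (I : Set A) = π ⁻¹' Set.range i by
    rw [hi]; rfl] at h

end Groth.Agent.SetsGabber24
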