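import Groth.Agent.Lib.SetsGabber24.Descend
import Groth.Agent.Lib.Gabber24.Refine

/-!
# Gabber's criterion for global sections on a closed subscheme
-/

universe u

open CategoryTheory CategoryTheory.Limits AlgebraicGeometry Opposite

set_option backward.isDefEq.respectTransparency.types false

namespace Groth.Agent.SetsGabber24

open Groth.Agent.EtStalk hiding agree isOpen_agree mem_agree_iff_germ agree_symm agree_trans agree_self eq_of_agree mem_agree_map mem_agree_unit
open Groth.Agent.EtDesc24 (agree isOpen_agree mem_agree_iff_germ eq_of_agree)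
open Groth.Agent.SetsStage24 (agree_self mem_agree_map val val_map val_congr val_congr' same isOpen_same mem_same_iff mem_same_geomPt mem_same_comp)
open Groth.Agent.Gabber24 (SecEq prodFst prodSnd prod exists_shrink exists_finite_refine)

theorem bijective_unit {Z X : Scheme.{u}} [CompactSpace X] [QuasiSeparatedSpace X]
    (i : Z ⟶ X) [IsClosedImmersion i]
    (h1 : SecEq X.carrier (Set.range i))
    (h2 : ∀ (X' : Scheme.{u}) (π : X' ⟶ X), IsFinite π → SecEq X'.carrier (π ⁻¹' Set.range i))
    (F : EtDesc.Sh X) :
    Function.Bijective (((EtDesc.adjSh i).unit.app F).hom.app (op (EtCoh.top X))) := by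
  constructor
  · intro s t hst
    have hA : agree F s t = Set.univ := h1.eq_univ (isOpen_agree F s t) (by
      rintro _ ⟨z, rfl⟩
      let T := (EtCoh.bc i).obj (EtCoh.top X)
      haveI : IsIso T.hom := by
        show IsIso (pullback.snd (𝟙 X) i)
        infer_instance
      let w : T.left := (inv T.hom : _ ⟶ T.left) z
      have h := (EtSets24.mem_agree_unitAt i F s t w).1 (by
        show w ∈ agree ((EtDesc.pullSh i).obj F) (U := T) (((EtDesc.adjSh i).unit.app F).hom.app (op (EtCoh.top X)) s)
          (((EtDesc.adjSh i).unit.app F).hom.app (op (EtCoh.top X)) t)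
        rw [hst]; exact agree_self _ _ _)
      have e : bcFst i (EtCoh.top X) w = i z := by
        have h0 : (inv T.hom : _ ⟶ T.left) ≫ bcFst i (EtCoh.top X) = i := by
          rw [IsIso.inv_comp_eq]
          show pullback.fst (𝟙 X) i = pullback.snd (𝟙 X) i ≫ i
          simpa using pullback.condition (f := 𝟙 X) (g := i)
        exact (Scheme.Hom.comp_apply _ _ _).symm.trans (congrArg (fun f => f.base z) h0)
      rwa [e] at h)
    exact eq_of_agree F fun x => hA.ge trivial
  · intro σ
    choose V v s hv hs using exists_matches i F σ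
    have hcov : ∀ x : X, ∃ (z : Z) (v : (V z).left), (V z).hom v = x := by
      let g : ∀ z : Z, (V z).left ⟶ X := fun z => (V z).hom
      have hO : IsOpen (⋃ z, Set.range (g z)) := isOpen_iUnion fun z => by
        have : AlgebraicGeometry.Etale (g z) := (V z).prop
        exact (g z).isOpenMap.isOpen_range
      have hu := h1.eq_univ hO (by
        rintro _ ⟨z, rfl⟩
        exact Set.mem_iUnion.2 ⟨z, v z, hv z⟩)
      exact fun x => Set.mem_iUnion.1 (hu.ge (Set.mem_univ x))
    obtain ⟨X', π, hf, hπ, hfac⟩ := exists_finite_refine V hcov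
    choose W j r hW hr using hfac
    choose A hA hxA hAW using fun x => exists_isAffineOpen_mem_and_subset (x := x) (U := W x) (hW x)
    let P : X' → Piece π F := fun x =>
      (⟨W x, V (j x), r x, hr x, s (j x)⟩ : Piece π F).restrict (A x) (hAW x)
    haveI : CompactSpace X' := QuasiCompact.compactSpace_of_compactSpace π
    haveI : QuasiSeparatedSpace X' := quasiSeparatedSpace_of_quasiSeparated π
    obtain ⟨Q, hQm, hQc, hQa⟩ := exists_agreeAbove i P σ i.isClosedEmbedding.isClosed_range
      (h2 X' π hf) (fun x => (hA x).isCompact) (fun x => ⟨x, hxA x⟩) (fun x => hs (j x))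
    have hQb := hQa.agreeBelow i Q σ hQm hQc (h2 _ (pullback.fst π π ≫ π) inferInstance)
    obtain ⟨s₀, hs₀⟩ := hQb.exists_global Q hQc
    exact ⟨s₀, unit_eq_of_follows i Q hQc σ hQm s₀ hs₀⟩

end Groth.Agent.SetsGabber24
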