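import Groth.Agent.Lib.SetsGabber24.Pieces
import Mathlib.CategoryTheory.Sites.IsSheafFor

/-!
# Descent of compatible pieces along a finite surjective morphism
-/

universe u

open CategoryTheory CategoryTheory.Limits AlgebraicGeometry Opposite

set_option backward.isDefEq.respectTransparency.types false

namespace Groth.Agent.SetsGabber24

open Groth.Agent.EtStalk hiding agree isOpen_agree mem_agree_iff_germ agree_symm agree_trans agree_self eq_of_agree mem_agree_map mem_agree_unit
open Groth.Agent.EtDesc24 (agree isOpen_agree mem_agree_iff_germ eq_of_agree)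
open Groth.Agent.SetsStage24 (agree_self mem_agree_map val val_map val_congr val_congr' same isOpen_same mem_same_iff mem_same_geomPt mem_same_comp)
open Groth.Agent.Gabber24 (SecEq prodFst prodSnd prod exists_shrink)

variable {X X' Z : Scheme.{u}} (i : Z ⟶ X) {π : X' ⟶ X} {F : EtDesc.Sh X} {κ : Type u} (P : κ → Piece π F)

/-- A section on an etale scheme has the values of all pieces. -/
def Follows {N : X.Etale} (s : F.obj.obj (op N)) : Prop :=
  ∀ (l : κ) (Ω : Type u) [Field Ω] [IsSepClosed Ω] (ξ : Spec (CommRingCat.of Ω) ⟶ X)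
    (a : Spec (CommRingCat.of Ω) ⟶ (P l).opn) (b : Spec (CommRingCat.of Ω) ⟶ N.left)
    (ha : (a ≫ (P l).map) ≫ (P l).obj.hom = ξ) (hb : b ≫ N.hom = ξ),
    val F ξ (a ≫ (P l).map) ha (P l).sec = val F ξ b hb s

theorem AgreeBelow.exists_follows (h : AgreeBelow P) [IsFinite π] [Surjective π]
    (hcov : ∀ x, ∃ k, x ∈ (P k).opn) (x : X) :
    ∃ (N : X.Etale) (n : N.left) (s : F.obj.obj (op N)), N.hom n = x ∧ Follows P s := by
  obtain ⟨x', hx'⟩ := (inferInstance : Surjective π).surj x
  obtain ⟨k, hk⟩ := hcov x'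
  let N := (P k).obj
  let u : N.left := (P k).map ⟨x', hk⟩
  let Q : κ → Scheme.{u} := fun l => pullback ((P l).opn.ι ≫ π) N.hom
  let e : ∀ l, Q l ⟶ pullback π N.hom := fun l =>
    pullback.map _ _ _ _ (P l).opn.ι (𝟙 _) (𝟙 X) (by simp) (by simp)
  haveI : ∀ l, IsOpenImmersion (e l) := fun l => by simp only [e]; infer_instance
  have hse : ∀ l, e l ≫ pullback.snd π N.hom = pullback.snd ((P l).opn.ι ≫ π) N.hom := fun l => by
    simp [e, pullback.lift_snd]
  have hfe : ∀ l, e l ≫ pullback.fst π N.hom = pullback.fst _ _ ≫ (P l).opn.ι := fun l => by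
    simp [e, pullback.lift_fst]
  let S : ∀ l, Set (Q l) := fun l => same F (a := pullback.fst _ _ ≫ (P l).map)
    (b := pullback.snd ((P l).opn.ι ≫ π) N.hom)
    (q := pullback.fst ((P l).opn.ι ≫ π) N.hom ≫ (P l).opn.ι ≫ π)
    (((P l).comm' _).trans (Category.assoc _ _ _)) pullback.condition.symm (P l).sec (P k).sec
  let G : Set (pullback π N.hom : Scheme.{u}) := ⋃ l, e l '' S l
  have hG : IsOpen G := isOpen_iUnion fun l => (e l).isOpenEmbedding.isOpenMap _ (isOpen_same _ _ _ _ _)
  have hQ : ∀ y : (pullback π N.hom : Scheme.{u}), ∃ l q, e l q = y := fun y => by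
    obtain ⟨l, hl⟩ := hcov (pullback.fst π N.hom y)
    refine ⟨l, ?_⟩
    have : y ∈ Set.range (e l) := by
      simp only [e]
      rw [Scheme.Pullback.range_map, Scheme.Opens.range_ι]
      exact ⟨hl, by simp⟩
    exact this
  have hu : ∀ y, pullback.snd π N.hom y = u → y ∈ G := by
    intro y hy
    obtain ⟨l, q, hq⟩ := hQ y
    obtain ⟨p, hp, -⟩ := Scheme.Pullback.exists_preimage_pullback
      (f := pullback.snd ((P l).opn.ι ≫ π) N.hom) (g := (P k).map) q ⟨x', hk⟩ (by
        rw [← hse, Scheme.Hom.comp_apply, hq, hy])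
    let g := geomPt _ p
    let c := g ≫ pullback.fst (pullback.snd ((P l).opn.ι ≫ π) N.hom) (P k).map
    let b := g ≫ pullback.snd (pullback.snd ((P l).opn.ι ≫ π) N.hom) (P k).map
    have hb : b ≫ (P k).map = c ≫ pullback.snd ((P l).opn.ι ≫ π) N.hom := by
      simp only [b, c, Category.assoc, pullback.condition]
    have hc : c default = q := by simp only [c, g, Scheme.Hom.comp_apply, geomPt_default, hp]
    refine Set.mem_iUnion.2 ⟨l, q, ?_, hq⟩
    rw [← hc]
    simp only [S]
    rw [mem_same_iff]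
    have h1 := h l k _ (c ≫ pullback.fst _ _ ≫ (P l).opn.ι ≫ π) (c ≫ pullback.fst _ _) b
      (((P l).comm' _).trans (by simp only [Category.assoc]))
      (by rw [hb, Category.assoc, ← pullback.condition])
    exact (val_congr' F rfl (Category.assoc _ _ _) hb).1 h1
  let O : N.left.Opens := ⟨(pullback.snd π N.hom '' Gᶜ)ᶜ,
    ((pullback.snd π N.hom).isClosedMap _ hG.isClosed_compl).isOpen_compl⟩
  have huO : u ∈ O := fun ⟨y, hy, hyu⟩ => hy (hu y hyu)
  refine ⟨EtSite.sub N O, ⟨u, huO⟩, F.obj.map (EtSite.subHom N O).op (P k).sec, ?_, ?_⟩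
  · show (O.ι ≫ N.hom) ⟨u, huO⟩ = x
    rw [Scheme.Hom.comp_apply]
    refine Eq.trans ?_ hx'
    show N.hom ((P k).map ⟨x', hk⟩) = π x'
    rw [← Scheme.Hom.comp_apply, (P k).comm]
    exact Scheme.Hom.comp_apply _ _ _
  · intro l Ω _ _ ξ a b₀ ha hb₀
    let b := b₀ ≫ O.ι
    have hb : b ≫ N.hom = ξ := (Category.assoc _ _ _).trans hb₀
    rw [val_map F ξ (EtSite.subHom N O) b₀ hb₀ b hb rfl]
    have hab : a ≫ (P l).opn.ι ≫ π = b ≫ N.hom := by
      rw [← Category.assoc, ← (P l).comm', ha, hb]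
    let c : Spec (CommRingCat.of Ω) ⟶ Q l := pullback.lift a b hab
    suffices hm : c default ∈ S l by
      simp only [S] at hm
      rw [mem_same_iff] at hm
      exact (val_congr' F (by rw [← Category.assoc, pullback.lift_fst, hab, hb])
        (by rw [← Category.assoc, pullback.lift_fst]) (pullback.lift_snd _ _ _)).1 hm
    have hy : e l (c default) ∈ G := by
      by_contra hne
      refine (b₀ default).2 ⟨_, hne, ?_⟩
      rw [← Scheme.Hom.comp_apply, hse, ← Scheme.Hom.comp_apply, pullback.lift_snd]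
      exact Scheme.Hom.comp_apply _ _ _
    obtain ⟨l', q', hq', hqq⟩ := Set.mem_iUnion.1 hy
    obtain ⟨p, hp₁, hp₂⟩ := Scheme.Pullback.exists_preimage_pullback (f := e l) (g := e l')
      (c default) q' hqq.symm
    let g := geomPt _ p
    let f := g ≫ pullback.fst (e l) (e l')
    let f' := g ≫ pullback.snd (e l) (e l')
    have hf : f ≫ e l = f' ≫ e l' := by simp only [f, f', Category.assoc, pullback.condition]
    have h1 : (f ≫ pullback.fst _ _) ≫ (P l).opn.ι = (f' ≫ pullback.fst _ _) ≫ (P l').opn.ι := by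
      rw [Category.assoc, ← hfe, ← Category.assoc, hf, Category.assoc f' (e l'), hfe, ← Category.assoc]
    have h2 : f ≫ pullback.snd ((P l).opn.ι ≫ π) N.hom = f' ≫ pullback.snd ((P l').opn.ι ≫ π) N.hom := by
      rw [← hse, ← Category.assoc, hf, Category.assoc, hse]
    rw [show c default = f default by simp only [f, g, Scheme.Hom.comp_apply, geomPt_default, hp₁]]
    rw [show q' = f' default by simp only [f', g, Scheme.Hom.comp_apply, geomPt_default, hp₂]] at hq'
    simp only [S] at hq' ⊢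
    rw [mem_same_iff] at hq' ⊢
    have hξ : f' ≫ pullback.fst _ _ ≫ (P l').opn.ι ≫ π = f ≫ pullback.fst _ _ ≫ (P l).opn.ι ≫ π := by
      have := congrArg (· ≫ π) h1
      simpa only [Category.assoc] using this.symm
    have j := h l l' _ (f ≫ pullback.fst ((P l).opn.ι ≫ π) N.hom ≫ (P l).opn.ι ≫ π)
      (f ≫ pullback.fst _ _) (f' ≫ pullback.fst _ _)
      (((P l).comm' _).trans (by simp only [Category.assoc]))
      (((P l').comm' _).trans (by rw [← h1]; simp only [Category.assoc]))
    have j' := (val_congr' F rfl (Category.assoc _ _ _) (Category.assoc _ _ _)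
      (ha' := by rw [Category.assoc, (P l).comm']; simp only [Category.assoc])
      (hb' := by rw [Category.assoc, (P l').comm', hξ.symm]; simp only [Category.assoc])).1 j
    exact j'.trans ((val_congr' F hξ rfl h2.symm).1 hq')

theorem AgreeBelow.exists_global (h : AgreeBelow P) [IsFinite π] [Surjective π]
    (hcov : ∀ x, ∃ k, x ∈ (P k).opn) :
    ∃ s₀ : F.obj.obj (op (EtCoh.top X)), ∀ x : X, ∃ (N : X.Etale) (n : N.left) (s : F.obj.obj (op N)),
      N.hom n = x ∧ Follows P s ∧ F.obj.map (toTop N).op s₀ = s := by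
  choose N n s hn hs using h.exists_follows P hcov
  have hcomp : ∀ x y, F.obj.map (prodFst (N x) (N y)).op (s x) = F.obj.map (prodSnd (N x) (N y)).op (s y) := by
    intro x y
    refine eq_of_agree F fun p => ?_
    let M := Gabber24.prod (N x) (N y)
    obtain ⟨x', hx'⟩ := (inferInstance : Surjective π).surj (M.hom p)
    obtain ⟨l, hl⟩ := hcov x'
    obtain ⟨q, hq₁, hq₂⟩ := Scheme.Pullback.exists_preimage_pullback (f := (P l).opn.ι ≫ π) (g := M.hom)
      ⟨x', hl⟩ p ((Scheme.Hom.comp_apply _ _ _).trans hx')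
    let g := geomPt _ q
    let a := g ≫ pullback.fst ((P l).opn.ι ≫ π) M.hom
    let b := g ≫ pullback.snd ((P l).opn.ι ≫ π) M.hom
    let φ : fib (b ≫ M.hom) M := Over.homMk b rfl
    have ha : (a ≫ (P l).map) ≫ (P l).obj.hom = b ≫ M.hom := by
      rw [(P l).comm']; simp only [a, b, Category.assoc, pullback.condition]
    rw [show p = fibPt φ by
      show p = b default
      simp only [b, g, Scheme.Hom.comp_apply, geomPt_default, hq₂], mem_agree_iff_germ]
    have h1 := hs x l _ (b ≫ M.hom) a (b ≫ (prodFst (N x) (N y)).left) ha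
      (by rw [Category.assoc, MorphismProperty.Over.w])
    have h2 := hs y l _ (b ≫ M.hom) a (b ≫ (prodSnd (N x) (N y)).left) ha
      (by rw [Category.assoc, MorphismProperty.Over.w])
    exact ((val_map F _ (prodFst (N x) (N y)) b rfl _ _ rfl (s x)).trans
      (h1.symm.trans h2)).trans (val_map F _ (prodSnd (N x) (N y)) b rfl _ _ rfl (s y)).symm
  have hS : Sieve.ofArrows N (fun x => toTop (N x)) ∈ Scheme.smallEtaleTopology X (EtCoh.top X) :=
    (EtSite.mem_et_iff _ _).2 fun x => ⟨N x, toTop (N x), n x,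
      Sieve.ofArrows_mk _ (f := fun x => toTop (N x)) x, hn x⟩
  have hsh : Presieve.IsSheafFor (F.obj ⋙ forget _)
      (Presieve.ofArrows N (fun x => toTop (N x))) :=
    (Presieve.isSheafFor_iff_generate _).2 (((isSheaf_iff_isSheaf_of_type _ _).1
      ((Presheaf.isSheaf_iff_isSheaf_forget _ F.obj (forget _)).1 F.property)) _ hS)
  obtain ⟨s₀, hs₀, -⟩ := (Presieve.isSheafFor_arrows_iff _ _).1 hsh s (by
    intro x y W gx gy e
    let g : W ⟶ Gabber24.prod (N x) (N y) := MorphismProperty.Over.homMk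
      (pullback.lift gx.left gy.left ((MorphismProperty.Over.w gx).trans (MorphismProperty.Over.w gy).symm))
      ((Category.assoc _ _ _).symm.trans
        ((congrArg (· ≫ (N x).hom) (pullback.lift_fst _ _ _)).trans (MorphismProperty.Over.w gx)))
    have e1 : g ≫ prodFst (N x) (N y) = gx := MorphismProperty.Over.Hom.ext (pullback.lift_fst _ _ _)
    have e2 : g ≫ prodSnd (N x) (N y) = gy := MorphismProperty.Over.Hom.ext (pullback.lift_snd _ _ _)
    have := congrArg (F.obj.map g.op) (hcomp x y)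
    show (F.obj ⋙ forget _).map gx.op (s x) = (F.obj ⋙ forget _).map gy.op (s y)
    rw [← e1, ← e2, op_comp, op_comp, Functor.map_comp, Functor.map_comp]
    exact this)
  exact ⟨s₀, fun x => ⟨N x, n x, s x, hn x, hs x, hs₀ x⟩⟩

set_option maxHeartbeats 400000 in
/-- The glued section restricts to `σ`. -/
theorem unit_eq_of_follows [IsFinite π] [Surjective π] (hcov : ∀ x, ∃ k, x ∈ (P k).opn)
    (σ : ((EtDesc.pullSh i).obj F).obj.obj (op ((EtCoh.bc i).obj (EtCoh.top X))))
    (hm : AllMatch i P σ) (s₀ : F.obj.obj (op (EtCoh.top X)))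
    (hs₀ : ∀ x : X, ∃ (N : X.Etale) (n : N.left) (s : F.obj.obj (op N)),
      N.hom n = x ∧ Follows P s ∧ F.obj.map (toTop N).op s₀ = s) :
    ((EtDesc.adjSh i).unit.app F).hom.app (op (EtCoh.top X)) s₀ = σ := by
  have hid : toTop (EtCoh.top X) = 𝟙 _ := MorphismProperty.Over.Hom.ext rfl
  have hσ : ((EtDesc.pullSh i).obj F).obj.map ((EtCoh.bc i).map (toTop (EtCoh.top X))).op σ = σ := by
    rw [hid, CategoryTheory.Functor.map_id, op_id, CategoryTheory.Functor.map_id]
    rfl
  refine eq_of_agree ((EtDesc.pullSh i).obj F) (U := (EtCoh.bc i).obj (EtCoh.top X)) fun a => ?_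
  rw [← hσ]
  let T := (EtCoh.bc i).obj (EtCoh.top X)
  let z : Z := T.hom a
  obtain ⟨N, n, s, hn, hs, hres⟩ := hs₀ (i z)
  obtain ⟨q, hq₁, hq₂⟩ := Scheme.Pullback.exists_preimage_pullback (f := i) (g := N.hom) z n hn.symm
  let m : pullback i N.hom ⟶ X := pullback.fst i N.hom ≫ i
  obtain ⟨x', hx'⟩ := (inferInstance : Surjective π).surj (m q)
  obtain ⟨l, hl⟩ := hcov x'
  obtain ⟨r, hr₁, hr₂⟩ := Scheme.Pullback.exists_preimage_pullback (f := (P l).opn.ι ≫ π) (g := m)
    ⟨x', hl⟩ q ((Scheme.Hom.comp_apply _ _ _).trans hx')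
  let g := geomPt _ r
  let c := g ≫ pullback.snd ((P l).opn.ι ≫ π) m
  let aP := g ≫ pullback.fst ((P l).opn.ι ≫ π) m
  let ζ := c ≫ pullback.fst i N.hom
  let b := c ≫ pullback.snd i N.hom
  have haP : (aP ≫ (P l).map) ≫ (P l).obj.hom = ζ ≫ i := by
    rw [(P l).comm']; simp only [aP, ζ, c, Category.assoc, pullback.condition, m]
  have hb : b ≫ N.hom = ζ ≫ i := by
    simp only [b, ζ, Category.assoc, pullback.condition]
  let x : fib (ζ ≫ i) (EtCoh.top X) := Over.homMk (ζ ≫ i) (Category.comp_id _)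
  have hval : Sets.germ (ζ ≫ i) F x s₀ = tau i F σ ζ := by
    have h1 := val_map F (ζ ≫ i) (toTop N) b hb (ζ ≫ i) (Category.comp_id _) hb s₀
    rw [hres] at h1
    exact h1.symm.trans ((hs l _ _ aP b haP hb).symm.trans (hm l _ ζ _ haP))
  have hpt : a = fibPt (liftFib i ζ x) := by
    haveI : Mono T.hom := by
      show Mono (pullback.snd (𝟙 X) i)
      infer_instance
    haveI : IsIso T.hom := by
      show IsIso (pullback.snd (𝟙 X) i)
      infer_instance
    apply T.hom.homeomorph.injective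
    show T.hom a = T.hom (fibPt (liftFib i ζ x))
    let l₀ : Spec (CommRingCat.of _) ⟶ T.left := (liftFib i ζ x).left
    have : l₀ ≫ T.hom = ζ := Over.w (liftFib i ζ x)
    show T.hom a = T.hom (l₀ default)
    rw [← Scheme.Hom.comp_apply l₀ T.hom, this]
    simp only [ζ, c, g, Scheme.Hom.comp_apply, geomPt_default, hr₂, hq₁]
    rfl
  rw [hpt]
  exact (mem_agree_iff_val i F σ ζ x s₀).2 hval

end Groth.Agent.SetsGabber24
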