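import Groth.Agent.Lib.Gabber24.Hens
import Groth.Agent.Lib.SetsGabber24.Criterion

/-!
# Proper schemes over henselian pairs: sections of sheaves of sets on the special part
-/

universe u

open CategoryTheory CategoryTheory.Limits AlgebraicGeometry Opposite

namespace Groth.Agent.SetsGabber24

/-- Restriction to the special part is bijective on global sections of etale sheaves of sets. -/
theorem bijective_unit_proper {A : Type u} [CommRing A] {I : Ideal A} {X : Scheme.{u}}
    (hA : HenselianRing A I) (f : X ⟶ Spec (CommRingCat.of A)) [IsProper f]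
    {Z : Scheme.{u}} (i : Z ⟶ X) [IsClosedImmersion i]
    (hi : Set.range i = f ⁻¹' PrimeSpectrum.zeroLocus (I : Set A)) (F : EtDesc.Sh X) :
    Function.Bijective (((EtDesc.adjSh i).unit.app F).hom.app (op (EtCoh.top X))) := by
  haveI : CompactSpace X := QuasiCompact.compactSpace_of_compactSpace f
  haveI : QuasiSeparatedSpace X := quasiSeparatedSpace_of_quasiSeparated f
  refine bijective_unit i (hi.symm ▸ Gabber24.secEq_of_proper hA f) (fun X' π hπ => ?_) F
  have h := Gabber24.secEq_of_proper hA (π ≫ f)
  rwa [show (π ≫ f) ⁻¹' PrimeSpectrum.zeroLocus (I : Set A) = π ⁻¹' Set.range i by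
    rw [hi]; rfl] at h

end Groth.Agent.SetsGabber24
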