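import Groth.Agent.Lib.SetsStage24.Val
import Groth.Agent.Lib.EtSets24.ConstUnit

/-!
# A section of an inverse image as a family of germs, given locally by sections
-/

universe u

open CategoryTheory CategoryTheory.Limits AlgebraicGeometry Opposite

set_option backward.isDefEq.respectTransparency.types false

namespace Groth.Agent.SetsGabber24

open Groth.Agent.EtStalk hiding agree isOpen_agree mem_agree_iff_germ agree_symm agree_trans agree_self eq_of_agree mem_agree_map mem_agree_unit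
open Groth.Agent.EtDesc24 (agree isOpen_agree mem_agree_iff_germ eq_of_agree)
open Groth.Agent.SetsStage24 (agree_self mem_agree_map val val_map val_congr val_congr' same isOpen_same mem_same_iff mem_same_geomPt mem_same_comp)
open Groth.Agent.Gabber24 (prodFst prodSnd prod)

variable {X Z : Scheme.{u}} (i : Z ⟶ X) (F : EtDesc.Sh X)

/-- The tautological lift of a geometric point to `(bc i) (top X)`. -/
noncomputable def topFib {Ω : Type u} [Field Ω] [IsSepClosed Ω] (ζ : Spec (CommRingCat.of Ω) ⟶ Z) :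
    fib ζ ((EtCoh.bc i).obj (EtCoh.top X)) :=
  liftFib i ζ (Over.homMk (ζ ≫ i) (Category.comp_id _))

variable (σ : ((EtDesc.pullSh i).obj F).obj.obj (op ((EtCoh.bc i).obj (EtCoh.top X))))

/-- The Sets.germ of `σ` at `ζ`, as an element of the stalk of `F` at `ζ ≫ i`. -/
noncomputable def tau {Ω : Type u} [Field Ω] [IsSepClosed Ω] (ζ : Spec (CommRingCat.of Ω) ⟶ Z) :
    (Sets.stalk (ζ ≫ i)).obj F :=
  ((ConcreteCategory.bijective_of_isIso (Sets.stalkPull i ζ F)).2
    (Sets.germ ζ ((EtDesc.pullSh i).obj F) (topFib i ζ) σ)).choose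

lemma stalkPull_tau {Ω : Type u} [Field Ω] [IsSepClosed Ω] (ζ : Spec (CommRingCat.of Ω) ⟶ Z) :
    Sets.stalkPull i ζ F (tau i F σ ζ) = Sets.germ ζ ((EtDesc.pullSh i).obj F) (topFib i ζ) σ :=
  ((ConcreteCategory.bijective_of_isIso (Sets.stalkPull i ζ F)).2 _).choose_spec

/-- The section `s` has the germs of `σ` along `Z`. -/
def Matches {V : X.Etale} (s : F.obj.obj (op V)) : Prop :=
  ∀ (Ω : Type u) [Field Ω] [IsSepClosed Ω] (ζ : Spec (CommRingCat.of Ω) ⟶ Z)
    (a : Spec (CommRingCat.of Ω) ⟶ V.left) (h : a ≫ V.hom = ζ ≫ i),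
    val F (ζ ≫ i) a h s = tau i F σ ζ

noncomputable def toTop (V : X.Etale) : V ⟶ EtCoh.top X :=
  MorphismProperty.Over.homMk V.hom (Category.comp_id _)

/-- The sections on `(bc i) V` given by `s` and by `σ` agree above a lift iff the germs do. -/
lemma mem_agree_iff_val {Ω : Type u} [Field Ω] [IsSepClosed Ω] (ζ : Spec (CommRingCat.of Ω) ⟶ Z)
    {V : X.Etale} (x : fib (ζ ≫ i) V) (s : F.obj.obj (op V)) :
    fibPt (liftFib i ζ x) ∈ agree ((EtDesc.pullSh i).obj F)
        (((EtDesc.adjSh i).unit.app F).hom.app (op V) s)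
        (((EtDesc.pullSh i).obj F).obj.map ((EtCoh.bc i).map (toTop V)).op σ) ↔
      Sets.germ (ζ ≫ i) F x s = tau i F σ ζ := by
  rw [mem_agree_iff_germ, ← Sets.germ_stalkPull, Sets.germ_map, ← liftFib_map]
  have e : (Scheme.pointSmallEtale (ζ ≫ i)).fiber.map (toTop V) x =
      Over.homMk (ζ ≫ i) (Category.comp_id _) := by
    refine Over.OverMorphism.ext ?_
    show x.left ≫ V.hom = ζ ≫ i
    exact Over.w x
  rw [e]
  constructor
  · intro h
    exact (ConcreteCategory.bijective_of_isIso (Sets.stalkPull i ζ F)).1 (h.trans (stalkPull_tau i F σ ζ).symm)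
  · intro h
    rw [h]
    exact stalkPull_tau i F σ ζ

/-- Every point of `Z` is in the image of a section matching `σ`. -/
theorem exists_matches [IsClosedImmersion i] (z : Z) :
    ∃ (V : X.Etale) (v : V.left) (s : F.obj.obj (op V)), V.hom v = i z ∧ Matches i F σ s := by
  let ζ := geomPt Z z
  obtain ⟨V, x, s, hs⟩ := Sets.germ_surjective (ζ ≫ i) F (tau i F σ ζ)
  let A := agree ((EtDesc.pullSh i).obj F) (((EtDesc.adjSh i).unit.app F).hom.app (op V) s)
        (((EtDesc.pullSh i).obj F).obj.map ((EtCoh.bc i).map (toTop V)).op σ)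
  haveI : IsClosedImmersion (bcFst i V) :=
    MorphismProperty.pullback_fst (P := @IsClosedImmersion) _ _ inferInstance
  let B : Set V.left := bcFst i V '' Aᶜ
  have hB : IsClosed B := (bcFst i V).isClosedEmbedding.isClosedMap _ (isOpen_agree _ _ _).isClosed_compl
  have hfst : ∀ {Ω : Type u} [Field Ω] [IsSepClosed Ω] (ζ : Spec (CommRingCat.of Ω) ⟶ Z)
      (x : fib (ζ ≫ i) V), bcFst i V (fibPt (liftFib i ζ x)) = fibPt x := fun ζ x =>
    (Scheme.Hom.comp_apply _ _ _).symm.trans
      (congrArg (fun f : Spec (CommRingCat.of _) ⟶ V.left => f.base default) (show (liftFib i ζ x).left ≫ bcFst i V = x.left from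
        pullback.lift_fst _ _ _))
  let W : V.left.Opens := ⟨Bᶜ, hB.isOpen_compl⟩
  have hxW : fibPt x ∈ W := by
    rintro ⟨p, hp, hpx⟩
    have : p = fibPt (liftFib i ζ x) :=
      (bcFst i V).isClosedEmbedding.injective (hpx.trans (hfst ζ x).symm)
    exact hp (this ▸ (mem_agree_iff_val i F σ ζ x s).2 hs)
  refine ⟨EtSite.sub V W, ⟨fibPt x, hxW⟩, F.obj.map (EtSite.subHom V W).op s, ?_, ?_⟩
  · show (W.ι ≫ V.hom) ⟨fibPt x, hxW⟩ = i z
    rw [Scheme.Hom.comp_apply]
    have e := congrArg (fun f => f.base (default : Spec (CommRingCat.of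
      (SeparableClosure (Z.residueField z))))) (show x.left ≫ V.hom = ζ ≫ i from Over.w x)
    refine Eq.trans ?_ (e.trans ((Scheme.Hom.comp_apply ζ i _).trans (congrArg i (geomPt_default z))))
    exact (Scheme.Hom.comp_apply _ _ _).symm
  · intro Ω _ _ ζ' a h
    have h' : (a ≫ W.ι) ≫ V.hom = ζ' ≫ i := (Category.assoc _ _ _).trans h
    rw [val_map F (ζ' ≫ i) (EtSite.subHom V W) a h (a ≫ W.ι) h' rfl]
    refine (mem_agree_iff_val i F σ ζ' (Over.homMk (a ≫ W.ι) h') s).1 ?_
    by_contra hne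
    have hpt : fibPt (Over.homMk (a ≫ W.ι) h' : fib (ζ' ≫ i) V) ∈ W := (a default).2
    exact hpt ⟨_, hne, hfst ζ' _⟩

end Groth.Agent.SetsGabber24
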